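import Mathlib.Data.List.Basic

/-!
# Candidates for an involutory element swapping `0` and `∞`

Computations with natural numbers below `p`, the number `p` itself standing for `∞`.
-/

set_option autoImplicit false

namespace CfsgLib.Classification.PSLTwoSmall

/-- Is `a` a nonzero square modulo `p`. -/
def sqB (p a : ℕ) : Bool := a ^ ((p - 1) / 2) % p == 1

/-- The map `x ↦ a x + b` on the projective line. -/
def affN (p a b x : ℕ) : ℕ := if x < p then (a * x + b) % p else p

/-- The candidate swapping `0` and `∞`: `x ↦ x ^ k c` on squares, `g x ↦ x ^ k e`. -/
def wN (p gi k c e x : ℕ) : ℕ :=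
  if x = 0 then p
  else if x < p then (if sqB p x then x ^ k * c % p else (x * gi % p) ^ k * e % p)
  else 0

/-- `w u w ∈ U w N` for the candidate `w`. -/
def testW (p gi k c e : ℕ) : Bool :=
  (List.range p).any fun b =>
    (affN p 1 (wN p gi k c e 1) (wN p gi k c e b)
        == wN p gi k c e (affN p 1 1 (wN p gi k c e 0))) &&
      (List.range p).any fun a => sqB p a &&
        (List.range (p + 1)).all fun x =>
          affN p 1 (wN p gi k c e 1) (wN p gi k c e (affN p a b x))
            == wN p gi k c e (affN p 1 1 (wN p gi k c e x))

/-- The only candidates passing the test are `x ↦ c / x` with `-c` a square. -/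
def classifyW (p g gi : ℕ) : Bool :=
  (List.range ((p - 1) / 2)).all fun k => [1, g].all fun c => (List.range p).all fun e =>
    !testW p gi k c e ||
      (sqB p ((p - c) % p) &&
        (List.range p).all fun x => (x == 0) || (wN p gi k c e x * x % p == c))

/-- Basic facts about the chosen generator `g`. -/
def basicW (p g gi : ℕ) : Bool :=
  decide (g < p) && decide (gi < p) && (g * gi % p == 1) && sqB p (g * g % p)
    && ((List.range p).all fun x => (x == 0) || sqB p x || sqB p (x * gi % p))
    && ((List.range p).all fun x => !sqB p x ||
      (List.range ((p - 1) / 2)).any fun k => (g * g) ^ k % p == x)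
    && ((List.range p).all fun c => (c == 0) ||
      (List.range p).any fun a => sqB p a && ((a * c % p == 1) || (a * c % p == g)))

theorem check_eleven : basicW 11 2 6 = true ∧ classifyW 11 2 6 = true := by decide +kernel

theorem check_thirteen : basicW 13 2 7 = true ∧ classifyW 13 2 7 = true := by decide +kernel

theorem check_seventeen : basicW 17 3 6 = true ∧ classifyW 17 3 6 = true := by decide +kernel

theorem check_nineteen : basicW 19 2 10 = true ∧ classifyW 19 2 10 = true := by decide +kernel

theorem check_twentyThree : basicW 23 5 14 = true ∧ classifyW 23 5 14 = true := by decide +kernel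

end CfsgLib.Classification.PSLTwoSmall
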