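import Cfsg.Agent.Classification.PSLTwoSmall.Model
import Cfsg.Agent.Classification.PSLTwoSmall.Check
import Cfsg.Agent.Linear.Basic
import Mathlib.LinearAlgebra.Matrix.ProjectiveSpecialLinearGroup
import Mathlib.NumberTheory.LegendreSymbol.Basic

/-!
# Simple groups of order `p (p² - 1) / 2` for small `p`
-/

set_option autoImplicit false

namespace CfsgLib.Classification.PSLTwoSmall

open CfsgLib.Small
open scoped OnePoint MatrixGroups
open Matrix

variable {p : ℕ} [Fact p.Prime]

/-- Möbius transformations from `SL(2, p)`. -/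
noncomputable def mob (p : ℕ) [Fact p.Prime] :
    SL(2, ZMod p) →* Equiv.Perm (OnePoint (ZMod p)) :=
  (MulAction.toPermHom (GL (Fin 2) (ZMod p)) (OnePoint (ZMod p))).comp Matrix.SpecialLinearGroup.toGL

theorem mob_infty (A : SL(2, ZMod p)) :
    mob p A ∞ = if A.1 1 0 = 0 then ∞ else ((A.1 0 0 / A.1 1 0 : ZMod p) : OnePoint (ZMod p)) :=
  OnePoint.smul_infty_eq_ite (Matrix.SpecialLinearGroup.toGL A)

theorem mob_coe (A : SL(2, ZMod p)) (x : ZMod p) :
    mob p A x = if A.1 1 0 * x + A.1 1 1 = 0 then ∞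
      else (((A.1 0 0 * x + A.1 0 1) / (A.1 1 0 * x + A.1 1 1) : ZMod p) : OnePoint (ZMod p)) :=
  OnePoint.smul_some_eq_ite (g := Matrix.SpecialLinearGroup.toGL A)

/-- An element of `SL(2, p)` given by its entries. -/
def slMat {F : Type*} [CommRing F] (a b c d : F) (h : a * d - b * c = 1) : SL(2, F) :=
  ⟨!![a, b; c, d], by rw [Matrix.det_fin_two_of]; exact h⟩

theorem slMat_zero_zero {F : Type*} [CommRing F] (a b c d : F) (h : a * d - b * c = 1) :
    (slMat a b c d h).1 0 0 = a := rfl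

theorem slMat_zero_one {F : Type*} [CommRing F] (a b c d : F) (h : a * d - b * c = 1) :
    (slMat a b c d h).1 0 1 = b := rfl

theorem slMat_one_zero {F : Type*} [CommRing F] (a b c d : F) (h : a * d - b * c = 1) :
    (slMat a b c d h).1 1 0 = c := rfl

theorem slMat_one_one {F : Type*} [CommRing F] (a b c d : F) (h : a * d - b * c = 1) :
    (slMat a b c d h).1 1 1 = d := rfl

theorem center_le_ker_mob : Subgroup.center SL(2, ZMod p) ≤ (mob p).ker := by
  intro A hA
  obtain ⟨r, hr, hA'⟩ := Matrix.SpecialLinearGroup.mem_center_iff.1 hA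
  have hr0 : r ≠ 0 := by rintro rfl; simp at hr
  rw [MonoidHom.mem_ker]
  refine Equiv.ext fun o => ?_
  cases o with
  | infty => simp [mob_infty, ← hA']
  | coe x => simp [mob_coe, ← hA', hr0]

/-- The encoding of points by natural numbers. -/
def enc (o : OnePoint (ZMod p)) : ℕ := o.elim p fun x => x.val

theorem enc_coe (x : ZMod p) : enc (x : OnePoint (ZMod p)) = x.val := rfl

theorem enc_infty : enc (∞ : OnePoint (ZMod p)) = p := rfl

theorem exists_enc_eq {n : ℕ} (hn : n ≤ p) : ∃ o : OnePoint (ZMod p), enc o = n := by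
  rcases eq_or_lt_of_le hn with rfl | hn
  · exact ⟨∞, rfl⟩
  · exact ⟨((n : ZMod p) : OnePoint (ZMod p)), by rw [enc_coe, ZMod.val_natCast, Nat.mod_eq_of_lt hn]⟩

theorem mod_eq_val_iff (a : ℕ) (x : ZMod p) : a % p = x.val ↔ (a : ZMod p) = x := by
  rw [← ZMod.val_natCast]
  exact (ZMod.val_injective p).eq_iff

theorem sqB_iff (a : ℕ) : sqB p a = true ↔ (a : ZMod p) ^ ((p - 1) / 2) = 1 := by
  rw [sqB, beq_iff_eq, ← Nat.cast_pow, ← mod_eq_val_iff, ZMod.val_one]

theorem affN_enc {a b x : ZMod p} :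
    affN p a.val b.val x.val = (a * x + b).val := by
  rw [affN, if_pos x.val_lt, mod_eq_val_iff]
  simp

theorem isSquare_of_slope (hp : 3 ≤ p) {a : ZMod p} (ha : a ^ ((p - 1) / 2) = 1) :
    ∃ r : ZMod p, r ≠ 0 ∧ a = r * r := by
  have hodd : p % 2 = 1 := (Fact.out : p.Prime).eq_two_or_odd.resolve_left (by omega)
  have ha0 : a ≠ 0 := fun e => by rw [e, zero_pow (by omega)] at ha; exact zero_ne_one ha
  obtain ⟨r, hr⟩ := (ZMod.euler_criterion p ha0).2 (by rw [show p / 2 = (p - 1) / 2 by omega]; exact ha)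
  exact ⟨r, fun e => ha0 (by rw [hr, e, mul_zero]), hr⟩

variable {G : Type*} [Group G]

namespace Model

theorem translate_spec (M : Model G p) :
    ∀ t : ZMod p, ∃ g, M.hom g ∞ = ∞ ∧
      ∀ x : ZMod p, M.hom g x = ((x + t : ZMod p) : OnePoint (ZMod p)) := by
  intro t
  obtain ⟨g, hg, hx⟩ := M.exists_affine 1 t (one_pow _)
  exact ⟨g, hg, fun x => by rw [hx, one_mul]⟩

/-- The swapping element may be taken to be `x ↦ c / x` with `-c` a square. -/
theorem exists_inversion (M : Model G p) (hp : 3 ≤ p) {g gi : ℕ}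
    (hb : basicW p g gi = true) (hc : classifyW p g gi = true) :
    ∃ (w : G) (c : ZMod p), (-c) ^ ((p - 1) / 2) = 1 ∧
      M.hom w ∞ = ((0 : ZMod p) : OnePoint (ZMod p)) ∧
      M.hom w ((0 : ZMod p) : OnePoint (ZMod p)) = ∞ ∧
      ∀ x : ZMod p, x ≠ 0 → M.hom w x = ((c / x : ZMod p) : OnePoint (ZMod p)) := by
  simp only [basicW, Bool.and_eq_true, decide_eq_true_eq, List.all_eq_true, List.mem_range,
    Bool.or_eq_true, Bool.not_eq_true', beq_iff_eq, List.any_eq_true] at hb
  obtain ⟨⟨⟨⟨⟨⟨hg, -⟩, hgi⟩, hgg⟩, hsq⟩, hgen⟩, hnorm⟩ := hb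
  set m := (p - 1) / 2 with hm
  have hg' : (g : ZMod p) * gi = 1 := by rw [← Nat.cast_mul, ← mod_eq_val_iff, ZMod.val_one]; exact hgi
  have hgp : (g : ZMod p).val = g := by rw [ZMod.val_natCast, Nat.mod_eq_of_lt hg]
  have hh : ((g : ZMod p) * g) ^ m = 1 := by
    have := (sqB_iff (p := p) _).1 hgg
    rwa [ZMod.natCast_mod, Nat.cast_mul] at this
  have hgen' : ∀ x : ZMod p, x ^ m = 1 → ∃ i : ℕ, i < m ∧ ((g : ZMod p) * g) ^ i = x := by
    intro x hx
    rcases hgen x.val x.val_lt with h | ⟨i, hi, h⟩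
    · have : sqB p x.val = true := (sqB_iff _).2 (by rwa [ZMod.natCast_rightInverse x])
      rw [this] at h
      exact absurd h (by decide)
    · exact ⟨i, hi, by rw [← Nat.cast_mul, ← Nat.cast_pow, ← mod_eq_val_iff]; exact h⟩
  -- the given swap, normalised
  obtain ⟨w₀, hw₀i, hw₀z⟩ := M.exists_swap
  have hne : ∀ (w : G), M.hom w ((0 : ZMod p) : OnePoint (ZMod p)) = ∞ → ∀ x : ZMod p, x ≠ 0 →
      ∃ y : ZMod p, M.hom w x = (y : OnePoint (ZMod p)) := by
    intro w hz x hx
    cases hwx : M.hom w x with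
    | infty => exact absurd (OnePoint.coe_injective ((M.hom w).injective (hwx.trans hz.symm))) hx
    | coe y => exact ⟨y, rfl⟩
  obtain ⟨c₀, hc₀⟩ := hne w₀ hw₀z 1 one_ne_zero
  have hc₀0 : c₀ ≠ 0 := fun e => OnePoint.coe_ne_infty (1 : ZMod p)
    ((M.hom w₀).injective (by rw [hc₀, hw₀i, e]))
  obtain ⟨a, ha, hac⟩ : ∃ a : ZMod p, a ^ m = 1 ∧ (a * c₀ = 1 ∨ a * c₀ = g) := by
    rcases hnorm c₀.val c₀.val_lt with h | ⟨a, -, ha, h⟩
    · exact absurd ((ZMod.val_eq_zero c₀).1 h) hc₀0
    · refine ⟨(a : ZMod p), (sqB_iff a).1 ha, h.imp (fun h => ?_) (fun h => ?_)⟩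
      · rw [← ZMod.val_one p, mod_eq_val_iff, Nat.cast_mul, ZMod.natCast_rightInverse c₀] at h
        exact h
      · have h2 : a * c₀.val % p = (g : ZMod p).val := h.trans hgp.symm
        rw [mod_eq_val_iff, Nat.cast_mul, ZMod.natCast_rightInverse c₀] at h2
        exact h2
  obtain ⟨da, hdai, hdax⟩ := M.exists_affine a 0 ha
  obtain ⟨w, hwdef⟩ : ∃ w, w = da * w₀ := ⟨_, rfl⟩
  have hwi : M.hom w ∞ = ((0 : ZMod p) : OnePoint (ZMod p)) := by
    rw [hwdef, map_mul, Equiv.Perm.mul_apply, hw₀i, hdax, mul_zero, add_zero]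
  have hwz : M.hom w ((0 : ZMod p) : OnePoint (ZMod p)) = ∞ := by
    rw [hwdef, map_mul, Equiv.Perm.mul_apply, hw₀z, hdai]
  obtain ⟨c, hcv, hc1⟩ : ∃ c : ZMod p, (c = 1 ∨ c = g) ∧
      M.hom w ((1 : ZMod p) : OnePoint (ZMod p)) = (c : OnePoint (ZMod p)) :=
    ⟨a * c₀, hac, by rw [hwdef, map_mul, Equiv.Perm.mul_apply, hc₀, hdax, add_zero]⟩
  have hg0 : (g : ZMod p) ≠ 0 := fun e => by rw [e, zero_mul] at hg'; exact zero_ne_one hg'
  obtain ⟨e, he⟩ := hne w hwz g hg0
  have he0 : e ≠ 0 := fun h => OnePoint.coe_ne_infty (g : ZMod p)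
    ((M.hom w).injective (by rw [he, hwi, h]))
  -- `w` conjugates the torus to itself
  obtain ⟨d, hdi, hdx⟩ := M.exists_affine ((g : ZMod p) * g) 0 hh
  have hwinvz : M.hom w⁻¹ ((0 : ZMod p) : OnePoint (ZMod p)) = ∞ := by
    rw [map_inv, Equiv.Perm.inv_eq_iff_eq, hwi]
  have hwinvi : M.hom w⁻¹ ∞ = ((0 : ZMod p) : OnePoint (ZMod p)) := by
    rw [map_inv, Equiv.Perm.inv_eq_iff_eq, hwz]
  have hcji : M.hom (w * d * w⁻¹) ∞ = ∞ := by
    rw [map_mul, map_mul, Equiv.Perm.mul_apply, Equiv.Perm.mul_apply, hwinvi, hdx, mul_zero,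
      add_zero, hwz]
  obtain ⟨A, B, hA, hAB⟩ := M.affine _ hcji
  have hB : B = 0 := by
    have h := hAB 0
    rw [map_mul, map_mul, Equiv.Perm.mul_apply, Equiv.Perm.mul_apply, hwinvz, hdi, hwi, mul_zero,
      zero_add] at h
    exact (OnePoint.coe_injective h).symm
  obtain ⟨k, hk, hkA⟩ := hgen' A hA
  have hstep : ∀ (i : ℕ) (x y : ZMod p), M.hom w x = (y : OnePoint (ZMod p)) →
      M.hom w ((((g : ZMod p) * g) ^ i * x : ZMod p) : OnePoint (ZMod p))
        = ((A ^ i * y : ZMod p) : OnePoint (ZMod p)) := by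
    intro i
    induction i with
    | zero => intro x y h; simpa using h
    | succ i ih =>
      intro x y h
      have h1 := ih x y h
      have h2 : M.hom w (M.hom d ((((g : ZMod p) * g) ^ i * x : ZMod p) : OnePoint (ZMod p)))
          = M.hom (w * d * w⁻¹) ((A ^ i * y : ZMod p) : OnePoint (ZMod p)) := by
        rw [← h1, ← Equiv.Perm.mul_apply, ← Equiv.Perm.mul_apply, ← map_mul, ← map_mul]
        simp
      rw [hdx, hAB, hB, add_zero, add_zero] at h2
      simp only [pow_succ', mul_assoc] at h2 ⊢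
      exact h2
  -- agreement with the candidate
  have hW : ∀ o : OnePoint (ZMod p), enc (M.hom w o) = wN p gi k c.val e.val (enc o) := by
    intro o
    cases o with
    | infty =>
      rw [hwi, enc_coe, ZMod.val_zero, enc_infty, wN, if_neg (by omega), if_neg (lt_irrefl p)]
    | coe x =>
      by_cases hx : x = 0
      · rw [hx, hwz, enc_infty, enc_coe, ZMod.val_zero, wN, if_pos rfl]
      rw [enc_coe x, wN, if_neg (fun h => hx ((ZMod.val_eq_zero x).1 h)), if_pos x.val_lt]
      split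
      next h =>
        obtain ⟨i, -, hi⟩ := hgen' x (by
          have := (sqB_iff _).1 h
          rwa [ZMod.natCast_rightInverse x] at this)
        have h1 := hstep i 1 c hc1
        rw [mul_one, hi] at h1
        rw [h1, enc_coe, eq_comm, mod_eq_val_iff, Nat.cast_mul, Nat.cast_pow,
          ZMod.natCast_rightInverse x, ZMod.natCast_rightInverse c, ← hi, ← hkA, pow_right_comm]
      next h =>
        rcases hsq x.val x.val_lt with (h' | h') | h'
        · exact absurd ((ZMod.val_eq_zero x).1 h') hx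
        · exact absurd h' h
        obtain ⟨i, -, hi⟩ := hgen' (x * gi) (by
          have := (sqB_iff _).1 h'
          rwa [ZMod.natCast_mod, Nat.cast_mul, ZMod.natCast_rightInverse x] at this)
        have h1 := hstep i g e he
        rw [show ((g : ZMod p) * g) ^ i * g = x by rw [hi, mul_assoc, mul_comm (gi : ZMod p), hg', mul_one]] at h1
        rw [h1, enc_coe, eq_comm, mod_eq_val_iff, Nat.cast_mul, Nat.cast_pow, ZMod.natCast_mod,
          Nat.cast_mul, ZMod.natCast_rightInverse x, ZMod.natCast_rightInverse e, ← hi, ← hkA,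
          pow_right_comm]
  -- the product `w u w`
  obtain ⟨u, hui, hux⟩ := M.exists_translate
  obtain ⟨tt, htti, httx⟩ := M.translate_spec c
  have httc : M.hom tt⁻¹ (c : OnePoint (ZMod p)) = ((0 : ZMod p) : OnePoint (ZMod p)) := by
    rw [map_inv, Equiv.Perm.inv_eq_iff_eq, httx, zero_add]
  obtain ⟨h, hdef⟩ : ∃ h, h = w⁻¹ * tt⁻¹ * w * u * w := ⟨_, rfl⟩
  have hhi : M.hom h ∞ = ∞ := by
    rw [hdef, map_mul, map_mul, map_mul, map_mul, Equiv.Perm.mul_apply, Equiv.Perm.mul_apply,
      Equiv.Perm.mul_apply, Equiv.Perm.mul_apply, hwi, hux, zero_add, hc1, httc, hwinvz]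
  obtain ⟨a', b', ha', hab'⟩ := M.affine _ hhi
  have hprod : w * u * w = tt * w * h := by rw [hdef]; group
  have hc1N : wN p gi k c.val e.val 1 = c.val := by
    have := hW ((1 : ZMod p) : OnePoint (ZMod p))
    rw [hc1, enc_coe, enc_coe, ZMod.val_one] at this
    exact this.symm
  have haffenc : ∀ (v : G) (α β : ZMod p), M.hom v ∞ = ∞ →
      (∀ x : ZMod p, M.hom v x = ((α * x + β : ZMod p) : OnePoint (ZMod p))) →
      ∀ o, enc (M.hom v o) = affN p α.val β.val (enc o) := by
    intro v α β hvi hvx o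
    cases o with
    | infty => rw [hvi, enc_infty, affN, if_neg (lt_irrefl p)]
    | coe x => rw [hvx, enc_coe, enc_coe, affN_enc]
  have hall : ∀ x, x ≤ p →
      affN p 1 (wN p gi k c.val e.val 1) (wN p gi k c.val e.val (affN p a'.val b'.val x))
        = wN p gi k c.val e.val (affN p 1 1 (wN p gi k c.val e.val x)) := by
    intro x hx
    obtain ⟨o, rfl⟩ := exists_enc_eq hx
    have h1 : M.hom (w * u * w) o = M.hom (tt * w * h) o := by rw [hprod]
    rw [map_mul, map_mul, map_mul, map_mul] at h1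
    have h2 := congrArg enc h1
    simp only [Equiv.Perm.mul_apply] at h2
    rw [hW, haffenc u 1 1 hui (fun x => by rw [hux, one_mul]), hW,
      haffenc tt 1 c htti (fun x => by rw [httx, one_mul]), hW,
      haffenc h a' b' hhi hab', ZMod.val_one] at h2
    rw [hc1N]
    exact h2.symm
  have htest : testW p gi k c.val e.val = true := by
    simp only [testW, List.any_eq_true, List.all_eq_true, List.mem_range, Bool.and_eq_true, beq_iff_eq]
    refine ⟨b'.val, b'.val_lt, ?_, a'.val, a'.val_lt, ?_, fun x hx => hall x (by omega)⟩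
    · have := hall 0 (Nat.zero_le p)
      rwa [show affN p a'.val b'.val 0 = b'.val by
        rw [affN, if_pos (by omega), mul_zero, zero_add, Nat.mod_eq_of_lt b'.val_lt]] at this
    · rw [sqB_iff, ZMod.natCast_rightInverse a']; exact ha'
  simp only [classifyW, List.all_eq_true, List.mem_range, Bool.or_eq_true, Bool.and_eq_true,
    Bool.not_eq_true', beq_iff_eq] at hc
  have hcmem : c.val ∈ [1, g] := by
    rcases hcv with h | h <;> simp [h, hgp, ZMod.val_one]
  rcases hc k hk c.val hcmem e.val e.val_lt with h' | ⟨hneg, hinv⟩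
  · rw [htest] at h'; exact absurd h' (by decide)
  refine ⟨w, c, ?_, hwi, hwz, fun x hx => ?_⟩
  · have := (sqB_iff _).1 hneg
    rwa [ZMod.natCast_mod, Nat.cast_sub c.val_lt.le, ZMod.natCast_self, ZMod.natCast_rightInverse c,
      zero_sub] at this
  · obtain ⟨y, hy⟩ := hne w hwz x hx
    rcases hinv x.val x.val_lt with h' | h'
    · exact absurd ((ZMod.val_eq_zero x).1 h') hx
    have h1 := hW x
    rw [hy, enc_coe, enc_coe] at h1
    rw [← h1, mod_eq_val_iff, Nat.cast_mul, ZMod.natCast_rightInverse y,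
      ZMod.natCast_rightInverse x] at h'
    rw [hy, ← h', mul_div_assoc, div_self hx, mul_one]

theorem range_le (M : Model G p) (hp : 3 ≤ p) {g gi : ℕ}
    (hb : basicW p g gi = true) (hc : classifyW p g gi = true) : M.hom.range ≤ (mob p).range := by
  have hfix : ∀ v : G, M.hom v ∞ = ∞ → M.hom v ∈ (mob p).range := by
    intro v hv
    obtain ⟨a, b, ha, hab⟩ := M.affine v hv
    obtain ⟨r, hr, rfl⟩ := isSquare_of_slope hp ha
    refine ⟨slMat r (b / r) 0 r⁻¹ (by rw [mul_inv_cancel₀ hr, mul_zero, sub_zero]), Equiv.ext fun o => ?_⟩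
    cases o with
    | infty => rw [mob_infty, hv, slMat_one_zero, if_pos rfl]
    | coe x =>
      rw [mob_coe, hab, slMat_zero_zero, slMat_zero_one, slMat_one_zero, slMat_one_one]
      simp only [zero_mul, zero_add, inv_eq_zero, hr, if_false]
      congr 1
      field_simp
  obtain ⟨w, c, hneg, hwi, hwz, hwx⟩ := M.exists_inversion hp hb hc
  obtain ⟨s, hs, hcs⟩ := isSquare_of_slope hp hneg
  have hwmem : M.hom w ∈ (mob p).range := by
    refine ⟨slMat 0 (c / s) s⁻¹ 0 (by
      field_simp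
      linear_combination hcs), Equiv.ext fun o => ?_⟩
    cases o with
    | infty => rw [mob_infty, hwi, slMat_one_zero, slMat_zero_zero]; simp [hs]
    | coe x =>
      rw [mob_coe, slMat_zero_zero, slMat_zero_one, slMat_one_zero, slMat_one_one]
      by_cases hx : x = 0
      · rw [hx, hwz]; simp
      · rw [hwx x hx]
        simp only [zero_mul, add_zero, zero_add, mul_eq_zero, inv_eq_zero, hs, hx,
          or_self, if_false]
        congr 1
        field_simp
  rintro _ ⟨v, rfl⟩
  cases hv : M.hom v ∞ with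
  | infty => exact hfix v hv
  | coe t =>
    obtain ⟨tt, htti, httx⟩ := M.translate_spec t
    have h : M.hom ((tt * w)⁻¹ * v) ∞ = ∞ := by
      rw [map_mul, Equiv.Perm.mul_apply, hv, map_inv, Equiv.Perm.inv_eq_iff_eq, map_mul,
        Equiv.Perm.mul_apply, hwi, httx, zero_add]
    have h' : M.hom v = M.hom tt * M.hom w * M.hom ((tt * w)⁻¹ * v) := by
      rw [← map_mul, ← map_mul, mul_inv_cancel_left]
    rw [h']
    exact mul_mem (mul_mem (hfix tt htti) hwmem) (hfix _ h)

end Model

/-- A commutative simple group has prime order. -/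
theorem prime_card_of_comm {G : Type*} [Group G] [Finite G] [IsSimpleGroup G]
    (hc : IsMulCommutative G) : (Nat.card G).Prime := by
  letI : CommGroup G := { ‹Group G› with mul_comm := mul_comm' }
  exact IsSimpleGroup.prime_card

/-- A simple group of order `p (p² - 1) / 2` is `PSL(2, p)`, given the two computations and that
it has `p + 1` Sylow subgroups of order `p`. -/
theorem nonempty_equiv [Finite G] [IsSimpleGroup G] (hG : ¬ IsMulCommutative G) (hp : 3 ≤ p)
    (hcard : 2 * Nat.card G = p * (p ^ 2 - 1)) {m : ℕ} (hm : Nat.card G = p ^ 1 * m)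
    (hpm : ¬ p ∣ m) (hsyl : ∀ d ∈ (Nat.divisors m).filter (fun d => d % p = 1 ∧ d ≠ 1), d = p + 1)
    {g gi : ℕ} (hb : basicW p g gi = true) (hc : classifyW p g gi = true)
    {F : Type*} [Field F] [Fintype F] (hF : Fintype.card F = p) :
    Nonempty (G ≃* Matrix.ProjectiveSpecialLinearGroup (Fin 2) F) := by
  classical
  obtain ⟨P⟩ : Nonempty (Sylow p G) := inferInstance
  have hP : Nat.card (P : Subgroup G) = p := by rw [card_sylow_eq hm hpm P, pow_one]
  obtain ⟨M⟩ := nonempty_model hG hp hcard P hP (hsyl _ (card_sylow_mem hG hm one_ne_zero hpm))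
  let ψ : Matrix.ProjectiveSpecialLinearGroup (Fin 2) (ZMod p) →* Equiv.Perm (OnePoint (ZMod p)) :=
    QuotientGroup.lift _ (mob p) center_le_ker_mob
  have hle : M.hom.range ≤ ψ.range := fun x hx => by
    obtain ⟨A, rfl⟩ := M.range_le hp hb hc hx
    exact ⟨QuotientGroup.mk A, rfl⟩
  have hodd : Odd p := (Fact.out : p.Prime).odd_of_ne_two (by omega)
  have hpsl : Nat.card (Matrix.ProjectiveSpecialLinearGroup (Fin 2) (ZMod p)) = Nat.card G := by
    have h := CfsgLib.Linear.card_PSL_two_odd (F := ZMod p) (by rwa [ZMod.card])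
    rw [ZMod.card] at h
    omega
  have hinj : Nat.card M.hom.range = Nat.card G :=
    (Nat.card_congr (MonoidHom.ofInjective M.hom_injective).toEquiv).symm
  haveI : Finite (OnePoint (ZMod p)) := inferInstanceAs (Finite (Option (ZMod p)))
  have h1 : Nat.card ψ.range ≤ Nat.card (Matrix.ProjectiveSpecialLinearGroup (Fin 2) (ZMod p)) :=
    Nat.le_of_dvd Nat.card_pos (Subgroup.card_range_dvd ψ)
  have heq : M.hom.range = ψ.range := Subgroup.eq_of_le_of_card_ge hle (by omega)
  have hψ : Function.Injective ψ := by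
    have hb' : Function.Bijective ψ.rangeRestrict := (Nat.bijective_iff_surjective_and_card _).2
      ⟨ψ.rangeRestrict_surjective, by rw [hpsl, ← heq, hinj]⟩
    exact fun x y h => hb'.1 (Subtype.ext h)
  exact ⟨((MonoidHom.ofInjective M.hom_injective).trans (MulEquiv.subgroupCongr heq)).trans
    ((MonoidHom.ofInjective hψ).symm.trans
      (CfsgLib.Linear.pslFieldCongr (by rw [ZMod.card, hF])))⟩

end CfsgLib.Classification.PSLTwoSmall
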