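import Cfsg.Agent.Classification.SmallOrders.Tools
import Mathlib.Topology.Compactification.OnePoint.ProjectiveLine
import Mathlib.FieldTheory.Finite.Basic

/-!
# A group with `p + 1` Sylow subgroups of order `p` acting on a projective line

For a simple group of order `p (p² - 1) / 2` with `p + 1` Sylow `p`-subgroups the conjugation
action on them is a permutation group on `OnePoint (ZMod p)` in which the stabiliser of `∞` is
the group of maps `x ↦ a x + b` with `a ^ ((p - 1) / 2) = 1`.
-/

set_option autoImplicit false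

namespace CfsgLib.Classification.PSLTwoSmall

open CfsgLib.Small CfsgLib.Classification.SmallOrders
open scoped OnePoint

variable {p : ℕ} [Fact p.Prime]

/-- Slopes allowed in the stabiliser of `∞`. -/
abbrev Slope (p : ℕ) : Type := {a : ZMod p // a ^ ((p - 1) / 2) = 1}

theorem card_slope_le (hp : 3 ≤ p) : Nat.card (Slope p) ≤ (p - 1) / 2 := by
  classical
  have hm : 0 < (p - 1) / 2 := by omega
  have h := Finset.card_le_card (s := (Finset.univ : Finset (ZMod p)).filter
    fun a => a ^ ((p - 1) / 2) = 1) (t := (Polynomial.nthRoots ((p - 1) / 2) (1 : ZMod p)).toFinset)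
    (fun a ha => Multiset.mem_toFinset.2 ((Polynomial.mem_nthRoots hm).2 (Finset.mem_filter.1 ha).2))
  rw [Nat.card_eq_fintype_card, Fintype.card_subtype]
  exact h.trans ((Multiset.toFinset_card_le _).trans (Polynomial.card_nthRoots _ _))

/-- A permutation model of the group on the projective line. -/
structure Model (G : Type*) [Group G] (p : ℕ) [Fact p.Prime] where
  /-- the action -/
  hom : G →* Equiv.Perm (OnePoint (ZMod p))
  hom_injective : Function.Injective hom
  exists_translate : ∃ u, hom u ∞ = ∞ ∧ ∀ x : ZMod p, hom u x = ((x + 1 : ZMod p) : OnePoint (ZMod p))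
  affine : ∀ g, hom g ∞ = ∞ → ∃ a b : ZMod p, a ^ ((p - 1) / 2) = 1 ∧
    ∀ x : ZMod p, hom g x = ((a * x + b : ZMod p) : OnePoint (ZMod p))
  exists_affine : ∀ a b : ZMod p, a ^ ((p - 1) / 2) = 1 → ∃ g, hom g ∞ = ∞ ∧
    ∀ x : ZMod p, hom g x = ((a * x + b : ZMod p) : OnePoint (ZMod p))
  exists_swap : ∃ w, hom w ∞ = ((0 : ZMod p) : OnePoint (ZMod p)) ∧
    hom w ((0 : ZMod p) : OnePoint (ZMod p)) = ∞

variable {G : Type*} [Group G] [Finite G] [IsSimpleGroup G]

theorem nonempty_model (hG : ¬ IsMulCommutative G) (hp : 3 ≤ p)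
    (hcard : 2 * Nat.card G = p * (p ^ 2 - 1)) (P : Sylow p G)
    (hP : Nat.card (P : Subgroup G) = p) (hn : Nat.card (Sylow p G) = p + 1) :
    Nonempty (Model G p) := by
  classical
  have hpd : p ∣ Nat.card G := by
    have := Subgroup.card_subgroup_dvd_card (P : Subgroup G)
    rwa [hP] at this
  have hNcard : Nat.card (Subgroup.normalizer ((P : Subgroup G) : Set G)) = (p - 1) / 2 * p := by
    have h := card_sylow_mul_card_normalizer P
    rw [hn] at h
    have hodd : p % 2 = 1 := (Fact.out : p.Prime).eq_two_or_odd.resolve_left (by omega)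
    obtain ⟨m, hm⟩ : ∃ m, p = 2 * m + 1 := ⟨p / 2, by omega⟩
    subst hm
    rw [show (2 * m + 1 - 1) / 2 = m by omega]
    rw [show (2 * m + 1) ^ 2 - 1 = (2 * m + 1 + 1) * (2 * m) by
      have : (2 * m + 1) ^ 2 = (2 * m + 1 + 1) * (2 * m) + 1 := by ring
      omega] at hcard
    refine Nat.eq_of_mul_eq_mul_left (show 0 < 2 * (2 * m + 1 + 1) by omega) ?_
    rw [mul_assoc, h, hcard]
    ring
  haveI : Nontrivial ↥(P : Subgroup G) :=
    Finite.one_lt_card_iff_nontrivial.1 (hP.symm ▸ (Fact.out : p.Prime).one_lt)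
  obtain ⟨⟨u, huP⟩, hu'⟩ := exists_ne (1 : ↥(P : Subgroup G))
  have hu1 : u ≠ 1 := fun e => hu' (Subtype.ext e)
  have hPu : Subgroup.zpowers u = (P : Subgroup G) := eq_zpowers_of_mem_prime hP huP hu1
  have hord : orderOf u = p := by rw [← Nat.card_zpowers, hPu, hP]
  -- exponentiation by residues
  let U : ZMod p → G := fun x => u ^ x.val
  have hUn : ∀ n : ℕ, u ^ n = U (n : ZMod p) := fun n => by
    show u ^ n = u ^ (n : ZMod p).val
    rw [ZMod.val_natCast, ← hord, pow_mod_orderOf]
  have hU0 : U 0 = 1 := by show u ^ (0 : ZMod p).val = 1; rw [ZMod.val_zero, pow_zero]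
  have hUadd : ∀ x y, U (x + y) = U x * U y := fun x y => by
    show _ = u ^ x.val * u ^ y.val
    rw [← pow_add, hUn, Nat.cast_add, ZMod.natCast_rightInverse x, ZMod.natCast_rightInverse y]
  have hUmul : ∀ x y, U x ^ y.val = U (x * y) := fun x y => by
    show (u ^ x.val) ^ y.val = _
    rw [← pow_mul, hUn, Nat.cast_mul, ZMod.natCast_rightInverse x, ZMod.natCast_rightInverse y]
  have hUP : ∀ x, U x ∈ (P : Subgroup G) := fun x => pow_mem huP _
  have hUinj : Function.Injective U := fun x y h => by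
    have h' : u ^ x.val = u ^ y.val := h
    rw [pow_inj_mod, hord, Nat.mod_eq_of_lt x.val_lt, Nat.mod_eq_of_lt y.val_lt] at h'
    exact ZMod.val_injective p h'
  have hUsurj : ∀ y ∈ (P : Subgroup G), ∃ x, y = U x := fun y hy => by
    rw [← hPu] at hy
    obtain ⟨n, rfl⟩ := mem_powers_iff_mem_zpowers.2 hy
    exact ⟨_, hUn n⟩
  obtain ⟨Q₀, hQ₀⟩ : ∃ Q, Q ≠ P := by
    haveI : Nontrivial (Sylow p G) := Finite.one_lt_card_iff_nontrivial.1 (by omega)
    exact exists_ne P
  have hUfix : ∀ x, U x • P = P := fun x =>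
    Sylow.smul_eq_iff_mem_normalizer.2 (Subgroup.le_normalizer (hUP x))
  let φ : OnePoint (ZMod p) → Sylow p G := fun o => o.elim P fun x => U x • Q₀
  have hφinj : Function.Injective φ := by
    have key : ∀ x, U x • Q₀ ≠ P := fun x h => hQ₀ (smul_left_cancel (U x) (h.trans (hUfix x).symm))
    intro o o' h
    cases o with
    | infty =>
      cases o' with
      | infty => rfl
      | coe y => exact (key y h.symm).elim
    | coe x =>
      cases o' with
      | infty => exact (key x h).elim
      | coe y =>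
        have h' : U x • Q₀ = U y • Q₀ := h
        have h2 : U (x - y) • Q₀ = Q₀ := by
          rw [← sub_add_cancel x y, add_comm, hUadd, mul_smul] at h'
          exact smul_left_cancel _ h'
        have h3 : U (x - y) = 1 := by
          by_contra hne
          exact hQ₀ (eq_of_smul_eq hP (hUP _) hne h2)
        rw [← hU0] at h3
        rw [sub_eq_zero.1 (hUinj h3)]
  haveI : Finite (OnePoint (ZMod p)) := inferInstanceAs (Finite (Option (ZMod p)))
  have hφ : Function.Bijective φ := (Nat.bijective_iff_injective_and_card φ).2 ⟨hφinj, by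
    rw [hn, show Nat.card (OnePoint (ZMod p)) = Nat.card (Option (ZMod p)) from rfl,
      Finite.card_option, Nat.card_zmod]⟩
  let e := Equiv.ofBijective φ hφ
  let ρ : G →* Equiv.Perm (OnePoint (ZMod p)) :=
    (Equiv.permCongrHom e.symm).toMonoidHom.comp (MulAction.toPermHom G (Sylow p G))
  have hρ : ∀ g o o', ρ g o = o' ↔ g • φ o = φ o' := fun g o o' => by
    show e.symm (g • φ o) = o' ↔ _
    rw [Equiv.symm_apply_eq]
    rfl
  have hρinj : Function.Injective ρ := by
    refine (injective_iff_map_eq_one ρ).2 fun g hg => sylow_action_faithful hG hpd fun Q => ?_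
    obtain ⟨o, rfl⟩ := hφ.2 Q
    exact (hρ g o o).1 (by rw [hg]; rfl)
  have haff : ∀ g : G, g • P = P → ∃ a b : ZMod p, a ^ ((p - 1) / 2) = 1 ∧
      ∀ x : ZMod p, g • φ (x : OnePoint (ZMod p)) = φ ((a * x + b : ZMod p) : OnePoint (ZMod p)) := by
    intro g hg
    have hgN := Sylow.smul_eq_iff_mem_normalizer.1 hg
    obtain ⟨a, ha⟩ := hUsurj _ ((Subgroup.mem_normalizer_iff.1 hgN u).1 huP)
    have hconj : ∀ x, g * U x * g⁻¹ = U (a * x) := fun x => by
      rw [← hUmul a x, ← ha, conj_pow]
    obtain ⟨o, ho⟩ := hφ.2 (g • Q₀)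
    cases o with
    | infty => exact (hQ₀ (smul_left_cancel g (ho.symm.trans hg.symm))).elim
    | coe b =>
      refine ⟨a, b, ?_, fun x => ?_⟩
      · have hpow : ∀ n : ℕ, ∀ x, g ^ n * U x * (g ^ n)⁻¹ = U (a ^ n * x) := by
          intro n
          induction n with
          | zero => intro x; simp
          | succ n ih =>
            intro x
            rw [pow_succ' a n, mul_assoc a, ← hconj, ← ih, pow_succ']
            group
        have hgN' : g ^ ((p - 1) / 2 * p) = 1 := by
          have h := pow_card_eq_one' (x := (⟨g, hgN⟩ : Subgroup.normalizer ((P : Subgroup G) : Set G)))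
          rw [hNcard] at h
          exact congrArg Subtype.val h
        have h := hpow ((p - 1) / 2 * p) 1
        rw [hgN', pow_mul, ZMod.pow_card, mul_one, one_mul, inv_one, mul_one] at h
        exact (hUinj h).symm
      · show g • (U x • Q₀) = U (a * x + b) • Q₀
        rw [hUadd, mul_smul, show U b • Q₀ = g • Q₀ from ho, ← mul_smul, ← mul_smul, ← hconj,
          mul_assoc (g * U x), inv_mul_cancel, mul_one]
  have hext : ∀ g g' : G, g • P = P → g' • P = P →
      (∀ x : ZMod p, g • φ (x : OnePoint (ZMod p)) = g' • φ (x : OnePoint (ZMod p))) → g = g' := by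
    intro g g' hg hg' h
    refine hρinj (Equiv.ext fun o => ?_)
    rw [hρ]
    show g • φ o = e (e.symm (g' • φ o))
    rw [Equiv.apply_symm_apply]
    cases o with
    | infty => exact hg.trans hg'.symm
    | coe x => exact h x
  have hmult : ∀ a b : ZMod p, a ^ ((p - 1) / 2) = 1 → ∃ g : G, g • P = P ∧
      ∀ x : ZMod p, g • φ (x : OnePoint (ZMod p)) = φ ((a * x + b : ZMod p) : OnePoint (ZMod p)) := by
    intro a₀ b₀ ha₀
    choose fa fb hfa hfx using fun g : Subgroup.normalizer ((P : Subgroup G) : Set G) =>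
      haff g (Sylow.smul_eq_iff_mem_normalizer.2 g.2)
    let f : Subgroup.normalizer ((P : Subgroup G) : Set G) → Slope p × ZMod p :=
      fun g => (⟨fa g, hfa g⟩, fb g)
    have hfinj : Function.Injective f := fun g g' h => Subtype.ext (hext g g'
      (Sylow.smul_eq_iff_mem_normalizer.2 g.2) (Sylow.smul_eq_iff_mem_normalizer.2 g'.2) fun x => by
        have h1 : fa g = fa g' := congrArg (fun z : Slope p × ZMod p => (z.1 : ZMod p)) h
        have h2 : fb g = fb g' := congrArg Prod.snd h
        rw [hfx, hfx, h1, h2])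
    have hb := hfinj.bijective_of_nat_card_le (by
      rw [Nat.card_prod, Nat.card_zmod, hNcard]
      exact Nat.mul_le_mul_right p (card_slope_le hp))
    obtain ⟨g, hg⟩ := hb.2 (⟨a₀, ha₀⟩, b₀)
    refine ⟨g, Sylow.smul_eq_iff_mem_normalizer.2 g.2, fun x => ?_⟩
    have h1 : fa g = a₀ := congrArg (fun z : Slope p × ZMod p => (z.1 : ZMod p)) hg
    have h2 : fb g = b₀ := congrArg Prod.snd hg
    rw [hfx, h1, h2]
  refine ⟨⟨ρ, hρinj, ⟨u, (hρ _ _ _).2 ?_, fun x => (hρ _ _ _).2 ?_⟩, fun g hg => ?_,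
    fun a b ha => ?_, ?_⟩⟩
  · exact Sylow.smul_eq_iff_mem_normalizer.2 (Subgroup.le_normalizer huP)
  · show u • (U x • Q₀) = U (x + 1) • Q₀
    rw [add_comm, hUadd, mul_smul]
    have hu : u = U 1 := by simpa using hUn 1
    rw [← hu]
  · obtain ⟨a, b, ha, hx⟩ := haff g ((hρ g ∞ ∞).1 hg)
    exact ⟨a, b, ha, fun x => (hρ _ _ _).2 (hx x)⟩
  · obtain ⟨g, hg, hx⟩ := hmult a b ha
    exact ⟨g, (hρ _ _ _).2 hg, fun x => (hρ _ _ _).2 (hx x)⟩
  · obtain ⟨g, hg⟩ := MulAction.exists_smul_eq G P (φ ((0 : ZMod p) : OnePoint (ZMod p)))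
    obtain ⟨o, ho⟩ := hφ.2 (g⁻¹ • P)
    cases o with
    | infty =>
      have : g • P = P := by rw [eq_inv_smul_iff] at ho; exact ho
      exact (hQ₀ (by rw [← one_smul G Q₀, ← hU0]; exact (this.symm.trans hg).symm)).elim
    | coe s =>
      refine ⟨g * U s, (hρ _ _ _).2 ?_, (hρ _ _ _).2 ?_⟩
      · show (g * U s) • P = _
        rw [mul_smul, hUfix, hg]
      · show (g * U s) • (U 0 • Q₀) = P
        rw [hU0, one_smul, mul_smul]
        rw [eq_inv_smul_iff] at ho
        exact ho

end CfsgLib.Classification.PSLTwoSmall
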